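import Cfsg.Agent.H921.SporJ4
import Cfsg.Agent.H489.DegBase

/-!
# `J₄`: the extraspecial group `11^(1+2)` with fusion in its centre (helper592)

`v`, `b`, `cm = [v, b]` generate `11^(1+2)`; `n` of order 10 raises `cm` to its seventh power. Hence the bound 110.
-/

set_option autoImplicit false

namespace Cfsg.Agent.H592.Ppd.J4

open Cfsg.Agent.Lib.F2MatGroup Cfsg.Agent.Lib Cfsg.Agent.J4.RepData Cfsg.Agent.J4.Rep112
open Cfsg.Agent.H912.Bd Cfsg.Agent.H921.Spor.J4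

/-- program: `v` is entry 38, `b` entry 2, `n` entry 37, `cm` entry 0 at the end -/
def slpC : List (List ℕ) := [
  [1, 0, 1, 0, 1, 0, 1, 0, 2, 0],
  [1, 2, 1, 3, 1, 3, 1, 3, 1, 3],
  [3, 0, 5, 1],
  [0, 0, 0],
  [4, 5, 4, 5, 4, 5, 4, 6, 4, 6, 4, 6],
  [5, 6, 5, 6, 5, 7, 5, 7, 5, 6, 5, 7, 5, 6, 5, 6, 5, 6, 5, 6, 5, 6, 5, 6, 5, 7, 5, 6, 5, 6, 5, 6, 5, 7, 5, 6, 5, 7, 5, 7, 5],
  [2, 1],
  [0, 0, 0, 0, 0, 0, 0, 0, 0, 0, 0],
  [2, 2, 2, 2, 2, 0],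
  [0, 9, 11, 0, 10, 9],
  [11, 10, 0, 0],
  [1, 1, 1, 11, 13],
  [3, 14, 12, 3, 12, 13],
  [13, 14, 0, 0, 0, 0, 0],
  [1, 1, 1, 1, 1, 1, 16, 14],
  [6, 16, 15, 6, 15, 17],
  [16, 18, 0, 0],
  [1, 1, 1, 18, 17],
  [9, 20, 21, 18, 9, 18, 21, 19],
  [19, 22, 20, 0, 0, 0, 0, 0],
  [1, 1, 1, 1, 1, 1, 22, 23, 20],
  [12, 23, 24, 23, 12, 22, 24, 22],
  [23, 25, 23, 0, 0, 0, 0, 0],
  [1, 1, 1, 1, 1, 1, 25, 26, 25],
  [15, 24, 27, 25, 15, 26, 27, 24],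
  [27, 28, 25, 0, 0, 0, 0, 0],
  [1, 1, 1, 1, 1, 1, 26, 29, 27],
  [18, 27, 28, 18, 29, 27],
  [30, 28, 0, 0, 0, 0, 0],
  [1, 1, 1, 1, 1, 1, 29, 30],
  [10, 13],
  [0, 0],
  [0, 0],
  [0, 0, 0, 0],
  [0, 1, 2],
  [24, 24, 21, 18, 12, 9, 6],
  [6, 9, 12, 18, 21, 24, 24],
  [0, 2, 1],
  [0, 0],
  [34, 34, 34, 34, 34, 34, 34, 34, 34, 34],
  [2, 35, 1],
  [3, 1, 2],
  [37, 1, 2, 0]]

theorem checkC : check 112 codes slpC
    [([38, 38, 38, 38, 38, 38, 38, 38, 38, 38, 38], []), ([0, 0, 0, 0, 0, 0, 0, 0, 0, 0, 0], []), ([38, 0], [0, 38]), ([2, 0], [0, 2]), ([37, 0], [0, 0, 0, 0, 0, 0, 0, 37]), ([38, 2], [0, 2, 38])]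
    [([0], [])] = true := by decide +kernel

theorem bd_eleven (hs : IsSimpleGroup Cfsg.Spor.J4) {F : Type*} [Field F] (h11 : ((11 : ℕ) : F) ≠ 0) :
    Bd F 11 (10 * 11) Cfsg.Spor.J4 := by
  have hinj := rho_injective hs
  obtain ⟨h1, h2⟩ := check_sound (by norm_num) codes_gens checkC
  have e1 := h1 (List.replicate 11 38, []) (by simp [List.replicate])
  have e2 := h1 (List.replicate 11 0, []) (by simp [List.replicate])
  have e3 := h1 ([38, 0], [0, 38]) (by simp)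
  have e4 := h1 ([2, 0], [0, 2]) (by simp)
  have e5 := h1 ([37, 0], List.replicate 7 0 ++ [37]) (by simp [List.replicate])
  have e6 := h1 ([38, 2], [0, 2, 38]) (by simp)
  have e7 := h2 ([0], []) (by simp)
  rw [← map_runG, ← map_evG, ← map_evG] at e1 e2 e3 e4 e5 e6
  replace e1 := hinj e1
  replace e2 := hinj e2
  replace e3 := hinj e3
  replace e4 := hinj e4
  replace e5 := hinj e5
  replace e6 := hinj e6
  have e8 : evG (runG slpC gens) [0] ≠ evG (runG slpC gens) [] := by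
    intro h
    apply e7
    rw [← map_runG, ← map_evG, ← map_evG]
    exact congrArg rho h
  simp only [evG_append, evG_replicate, evG_cons, evG_nil, mul_one] at e1 e2 e3 e4 e5 e6 e8
  refine H489.Deg.bd_ext (F := F) (r := 11) (a := getG (runG slpC gens) 38) (b := getG (runG slpC gens) 2)
    (y := getG (runG slpC gens) 37) (z := getG (runG slpC gens) 0) (k := 7) (j := 1) (by norm_num) h11 e8 e2 ?_
    e3 e4 (by rw [pow_one]; exact e1) ?_ 10 (by decide)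
  · rw [e5]
    group
  · rw [e6]
    group

end Cfsg.Agent.H592.Ppd.J4
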