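import Cfsg.Agent.H592.Ppd.RowsB
import Cfsg.Agent.H592.Ppd.J4
import Cfsg.Agent.S2042

/-!
# TEAM PPD (S5948): the row `J₄` (helper592)
-/

set_option autoImplicit false

namespace Cfsg.Agent.H592.Ppd

open Cfsg Cfsg.Geo Matrix
open Cfsg.Agent.H915.LD Cfsg.Agent.H100.Ppd Cfsg.Agent.NotCT

universe u

variable {n : ℕ} {F : Type u} [Field F] [Finite F] {k m : ℕ} {P : Subgroup (GL (Fin n) F)}

/-- **The row `J₄`.** -/
theorem row_j4 (h : Row k m P) (hT : Spor.IsoJ4 (Soc P)) : False := by
  obtain ⟨p, f, hp, hpF, hq⟩ := exists_card_eq F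
  have hT' := hT
  obtain ⟨e⟩ := hT'
  have hs : IsSimpleGroup Cfsg.Spor.J4 := (MulEquiv.isSimpleGroup_congr e).1 h.core.simple
  have hn : 22 ≤ n ∧ (n < 110 → p = 11) := by
    by_cases h11 : p = 11
    · refine ⟨H489.Deg.le_of_bd h.core e Cfsg.Agent.S2042.result (r := 23) (by norm_num)
        ((H921.Spor.J4.J4_twentythree' hs).bd (F := F) (by norm_num)
          (H489.Deg.cast_ne (F := F) hp (by norm_num) (by omega))), fun _ => h11⟩
    · have h1 := H489.Deg.le_of_bd h.core e Cfsg.Agent.S2042.result (r := 11) (by norm_num)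
        (J4.bd_eleven hs (F := F) (H489.Deg.cast_ne (F := F) hp (by norm_num) h11))
      omega
  refine kill_spor' h (by unfold IsSporadicGroup; tauto) (Orders.j4 hT)
    [2, 3, 5, 7, 11, 23, 29, 31, 37, 43] 22 22 hn.1 (by norm_num) (by decide +kernel) 43 (by decide)
    [(12, 37), (14, 43)] ?_ (by decide +kernel)
  have hlt := h.num.nlt
  intro x hx hk hxm
  simp only [List.mem_cons, List.not_mem_nil, or_false] at hx
  rcases hx with rfl | rfl
  · have hk' : k = 12 := hk
    obtain rfl : p = 11 := hn.2 (by omega)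
    have h1 := dvd_of_char h.num hq (r := 37) (by norm_num) hxm (j := 6) (by norm_num)
    rw [hk'] at h1
    exact absurd h1 (by norm_num)
  · have hk' : k = 14 := hk
    obtain rfl : p = 11 := hn.2 (by omega)
    have h1 := dvd_of_char h.num hq (r := 43) (by norm_num) hxm (j := 7) (by norm_num)
    rw [hk'] at h1
    exact absurd h1 (by norm_num)

end Cfsg.Agent.H592.Ppd
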