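import Cfsg.Agent.H592.Ppd.RowsB
import Cfsg.Agent.H489.DegLy

/-!
# TEAM PPD (S5948): the row `Ly` (helper592)

Characteristic not 5: a subgroup `5³` of `G₂(5)` with long orbits on its characters. Characteristic 5: `3⁵ : (2 × M₁₁)`.
-/

set_option autoImplicit false
set_option maxRecDepth 100000

namespace Cfsg.Agent.H592.Ppd.Ly

open Cfsg
open Cfsg.Agent.H51.LyThree Cfsg.Agent.H51.LyThreeData
open Cfsg.Agent.H489.Deg.Ly (x x_comm e3 e_pow e_five t_inv e0_ne wd)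
open Cfsg.Agent.H912.Bd Cfsg.Agent.H921.Spor

/-- `5³` in `G₂(5)` -/
theorem orb_five : Orb 5 44 Cfsg.Spor.Ly :=
  (wd.orb_gen (r := 5) (d := 3) (m := 44)
    (X := [[2, 4, 2, 0, 6, 4, 6, 0], [3, 2, 4, 1, 2, 3, 2, 4, 2, 0, 6, 4, 6, 0, 7, 6, 5, 0, 6, 7], [2]])
    (G := [[0, 0], [5, 2, 0]])
    (B := [[[4, 0, 0], [1, 2, 0], [0, 0, 2]], [[3, 0, 0], [1, 3, 0], [1, 2, 4]]])
    (S := [[], [0], [1], [1, 0], [0, 1], [1, 1, 1, 1], [0, 1, 0, 0, 0], [0, 0, 1, 0, 0], [0, 0, 0, 1, 0], [1, 1, 1, 1, 0],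
      [1, 1, 1, 0, 1], [1, 1, 0, 1, 1], [1, 0, 1, 1, 1], [0, 1, 1, 1, 1], [1, 1, 1, 1, 1], [0, 0, 1, 0, 0, 0],
      [0, 0, 0, 1, 0, 0], [1, 1, 1, 1, 1, 0], [1, 1, 1, 1, 0, 1], [1, 1, 1, 0, 1, 1], [1, 1, 0, 1, 1, 1], [1, 0,
      1, 1, 1, 1], [0, 1, 1, 1, 1, 1], [1, 1, 1, 0, 1, 0, 0, 0], [1, 1, 0, 1, 1, 0, 0, 0], [1, 0, 1, 1, 1, 0, 0,
      0], [0, 1, 1, 1, 1, 0, 0, 0], [1, 1, 0, 1, 0, 1, 0, 0], [0, 1, 1, 1, 0, 1, 0, 0], [1, 0, 1, 0, 1, 1, 0,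
      0], [1, 0, 0, 1, 1, 1, 0, 0], [0, 1, 0, 1, 1, 1, 0, 0], [0, 0, 1, 1, 1, 1, 0, 0], [1, 1, 1, 0, 0, 0, 1,
      0], [1, 1, 0, 1, 0, 0, 1, 0], [0, 0, 1, 1, 1, 0, 1, 0], [1, 1, 0, 0, 0, 1, 1, 0], [1, 0, 1, 0, 0, 1, 1,
      0], [0, 1, 0, 1, 0, 1, 1, 0], [0, 1, 0, 0, 1, 1, 1, 0], [0, 0, 1, 0, 1, 1, 1, 0], [1, 1, 0, 1, 0, 0, 0,
      1], [0, 1, 1, 1, 0, 0, 0, 1], [1, 0, 0, 1, 0, 1, 0, 1]]) (c₀ := [1, 0, 0])
    (by norm_num) (by decide +kernel)).of_inj Cfsg.Agent.Ly.Setup.psi Cfsg.Agent.Ly.Setup.psi_injective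

/-- matrices of `g⁻¹`, `t`, `u⁻¹`, `v⁻¹` -/
def B : List (List (List ℕ)) :=
  [[[0, 1, 0, 0, 0], [0, 0, 1, 0, 0], [0, 0, 0, 1, 0], [0, 0, 0, 0, 1], [1, 1, 2, 1, 0]],
   [[2, 0, 0, 0, 0], [0, 2, 0, 0, 0], [0, 0, 2, 0, 0], [0, 0, 0, 2, 0], [0, 0, 0, 0, 2]],
   [[2, 1, 1, 1, 2], [2, 2, 1, 2, 0], [2, 2, 0, 1, 1], [0, 0, 0, 1, 0], [2, 0, 0, 0, 0]],
   [[0, 2, 0, 0, 0], [1, 0, 1, 1, 1], [1, 2, 2, 2, 1], [0, 0, 0, 1, 0], [1, 2, 1, 0, 2]]]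

/-- words -/
def S : List (List ℕ) := [[], [0], [1], [0, 0], [1, 0], [0, 0, 0], [1, 0, 0], [0, 0, 0, 0], [1, 0, 0, 0], [0, 0, 0, 0, 0], [1, 0, 0, 0,
  0], [2, 0, 0, 2, 2], [0, 0, 0, 0, 0, 0], [1, 0, 0, 0, 0, 0], [2, 0, 0, 2, 2, 0], [0, 0, 0, 0, 0, 0, 0], [2, 2,
  0, 0, 2, 2, 1], [1, 0, 0, 0, 0, 0, 0], [2, 0, 0, 2, 0, 0], [2, 0, 0, 2, 1, 0], [2, 0, 0, 2, 0, 0, 0], [0, 0,
  0, 0, 0, 2, 1], [3, 0, 0, 2, 2, 1, 0], [2, 0, 0, 2, 1, 0, 0], [3, 0, 0, 0, 3, 0, 2], [2, 2, 0, 2, 0, 0, 0],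
  [0, 3, 3, 2, 0], [2, 0, 3, 0, 2, 2, 0], [3, 0, 0, 0, 3, 2, 0], [0, 3, 3, 0, 2, 0], [3, 2, 0, 3, 3, 1, 0], [3,
  0, 0, 2, 2, 0], [3, 2, 2, 0, 0, 2, 0], [0, 3, 0, 3, 3, 2, 2], [3, 0, 3, 3, 2, 2], [0, 0, 3, 0, 3, 3, 2], [3,
  3, 2, 0, 0], [3, 3, 0, 2, 0, 3, 0], [0, 3, 3, 0, 2, 1, 0], [0, 0, 3, 0, 3, 0, 2], [3, 0, 0, 0, 3, 2], [3, 2,
  2], [0, 3, 2, 2, 0, 0, 2], [0, 2, 0, 0], [2, 0, 2], [3, 0, 0, 2, 2, 1], [2, 0, 3, 2, 1, 0, 0], [2, 0, 0, 0, 3,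
  3], [2, 0, 3, 2], [0, 0, 2, 0, 3], [0, 0, 3], [2], [3, 0]]

/-- the normalising elements -/
noncomputable def gg (k : ℕ) : Cfsg.Spor.Ly := if k = 0 then g⁻¹ else if k = 1 then t else if k = 2 then u⁻¹ else v⁻¹

theorem act_of {s : Cfsg.Spor.Ly} {k : ℕ} {l : List Cfsg.Spor.Ly}
    (h : ([e k, s] : List Cfsg.Spor.Ly).prod = (s :: l).prod) : s⁻¹ * e k * s = l.prod := by
  have h1 : e k * s = s * l.prod := by simpa using h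
  rw [mul_assoc, h1, inv_mul_cancel_left]

theorem u0 : u⁻¹ * e 0 * u = pv x 0 [2, 1, 1, 1, 2] := by
  rw [act_of (rel (.cons h0 <| .cons hu .nil) (.cons hu <| .cons h0 <| .cons h0 <| .cons h1 <| .cons h2 <|
      .cons h3 <| .cons h4 <| .cons h4 .nil) actU0)]
  simp [pv, x, pow_two, mul_assoc]

theorem u1 : u⁻¹ * e 1 * u = pv x 0 [2, 2, 1, 2, 0] := by
  rw [act_of (rel (.cons h1 <| .cons hu .nil) (.cons hu <| .cons h0 <| .cons h0 <| .cons h1 <| .cons h1 <|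
      .cons h2 <| .cons h3 <| .cons h3 .nil) actU1)]
  simp [pv, x, pow_two, mul_assoc]

theorem u2 : u⁻¹ * e 2 * u = pv x 0 [2, 2, 0, 1, 1] := by
  rw [act_of (rel (.cons h2 <| .cons hu .nil) (.cons hu <| .cons h0 <| .cons h0 <| .cons h1 <| .cons h1 <|
      .cons h3 <| .cons h4 .nil) actU2)]
  simp [pv, x, pow_two, mul_assoc]

theorem u3 : u⁻¹ * e 3 * u = pv x 0 [0, 0, 0, 1, 0] := by
  rw [act_of (rel (.cons h3 <| .cons hu .nil) (.cons hu <| .cons h3 .nil) actU3)]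
  simp [pv, x]

theorem u4 : u⁻¹ * e 4 * u = pv x 0 [2, 0, 0, 0, 0] := by
  rw [act_of (rel (.cons h4 <| .cons hu .nil) (.cons hu <| .cons h0 <| .cons h0 .nil) actU4)]
  simp [pv, x, pow_two]

theorem v0 : v⁻¹ * e 0 * v = pv x 0 [0, 2, 0, 0, 0] := by
  rw [act_of (rel (.cons h0 <| .cons hv .nil) (.cons hv <| .cons h1 <| .cons h1 .nil) actV0)]
  simp [pv, x, pow_two]

theorem v1 : v⁻¹ * e 1 * v = pv x 0 [1, 0, 1, 1, 1] := by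
  rw [act_of (rel (.cons h1 <| .cons hv .nil) (.cons hv <| .cons h0 <| .cons h2 <| .cons h3 <|
      .cons h4 .nil) actV1)]
  simp [pv, x, mul_assoc]

theorem v2 : v⁻¹ * e 2 * v = pv x 0 [1, 2, 2, 2, 1] := by
  rw [act_of (rel (.cons h2 <| .cons hv .nil) (.cons hv <| .cons h0 <| .cons h1 <| .cons h1 <| .cons h2 <|
      .cons h2 <| .cons h3 <| .cons h3 <| .cons h4 .nil) actV2)]
  simp [pv, x, pow_two, mul_assoc]

theorem v3 : v⁻¹ * e 3 * v = pv x 0 [0, 0, 0, 1, 0] := by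
  rw [act_of (rel (.cons h3 <| .cons hv .nil) (.cons hv <| .cons h3 .nil) actV3)]
  simp [pv, x]

theorem v4 : v⁻¹ * e 4 * v = pv x 0 [1, 2, 1, 0, 2] := by
  rw [act_of (rel (.cons h4 <| .cons hv .nil) (.cons hv <| .cons h0 <| .cons h1 <| .cons h1 <| .cons h2 <|
      .cons h4 <| .cons h4 .nil) actV4)]
  simp [pv, x, pow_two, mul_assoc]

/-- `3⁵ : (2 × M₁₁)` -/
theorem orb_three : Orb 3 44 Cfsg.Spor.Ly := by
  refine Orb.of_gen (T := Cfsg.Spor.Ly) (by norm_num) 5 44 (by norm_num) x gg ?_ ?_ x_comm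
    [1, 0, 0, 0, 0] ?_ B ?_ ?_ S ?_ (by decide +kernel)
  · intro i
    unfold x
    split_ifs
    · exact e3 i
    · exact one_pow 3
  · intro i hi
    unfold x
    rw [if_neg (by omega)]
  · have : pv x 0 [1, 0, 0, 0, 0] = e 0 := by
      simp [pv, x]
    rw [this]
    exact e0_ne
  · intro b hb
    have : ∀ b ∈ B, b.length = 5 ∧ ∀ c ∈ b, c.length = 5 := by decide
    exact this b hb
  · intro k hk i hi
    have hB : B.length = 4 := rfl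
    rw [hB] at hk
    interval_cases k
    · show g⁻¹ * x i * (g⁻¹)⁻¹ = _
      rw [inv_inv]
      interval_cases i
      · show g⁻¹ * e 0 * g = pv x 0 [0, 1, 0, 0, 0]
        rw [← e_pow]; simp [pv, x]
      · show g⁻¹ * e 1 * g = pv x 0 [0, 0, 1, 0, 0]
        rw [← e_pow]; simp [pv, x]
      · show g⁻¹ * e 2 * g = pv x 0 [0, 0, 0, 1, 0]
        rw [← e_pow]; simp [pv, x]
      · show g⁻¹ * e 3 * g = pv x 0 [0, 0, 0, 0, 1]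
        rw [← e_pow]; simp [pv, x]
      · show g⁻¹ * e 4 * g = pv x 0 [1, 1, 2, 1, 0]
        rw [← e_pow, e_five]; simp [pv, x, mul_assoc]
    · show t * x i * t⁻¹ = _
      interval_cases i
      · show t * e 0 * t⁻¹ = pv x 0 [2, 0, 0, 0, 0]
        rw [t_inv]; simp [pv, x]
      · show t * e 1 * t⁻¹ = pv x 0 [0, 2, 0, 0, 0]
        rw [t_inv]; simp [pv, x]
      · show t * e 2 * t⁻¹ = pv x 0 [0, 0, 2, 0, 0]
        rw [t_inv]; simp [pv, x]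
      · show t * e 3 * t⁻¹ = pv x 0 [0, 0, 0, 2, 0]
        rw [t_inv]; simp [pv, x]
      · show t * e 4 * t⁻¹ = pv x 0 [0, 0, 0, 0, 2]
        rw [t_inv]; simp [pv, x]
    · show u⁻¹ * x i * (u⁻¹)⁻¹ = _
      rw [inv_inv]
      interval_cases i
      · exact u0
      · exact u1
      · exact u2
      · exact u3
      · exact u4
    · show v⁻¹ * x i * (v⁻¹)⁻¹ = _
      rw [inv_inv]
      interval_cases i
      · exact v0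
      · exact v1
      · exact v2
      · exact v3
      · exact v4
  · decide

end Cfsg.Agent.H592.Ppd.Ly

namespace Cfsg.Agent.H592.Ppd

open Cfsg Cfsg.Geo Matrix
open Cfsg.Agent.H915.LD Cfsg.Agent.H100.Ppd Cfsg.Agent.NotCT

universe u

variable {n : ℕ} {F : Type u} [Field F] [Finite F] {k m : ℕ} {P : Subgroup (GL (Fin n) F)}

/-- **The row `Ly`.** -/
theorem row_ly (h : Row k m P) (hT : Spor.IsoLy (Soc P)) : False := by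
  obtain ⟨p, f, hp, hpF, hq⟩ := exists_card_eq F
  have hT' := hT
  obtain ⟨e⟩ := hT'
  have hn : 44 ≤ n := by
    by_cases h5 : p = 5
    · exact H489.Deg.le_of_bd h.core e Cfsg.Agent.S2050.result (r := 3) (by norm_num)
        (Ly.orb_three.bd (F := F) (by norm_num) (H489.Deg.cast_ne (F := F) hp (by norm_num) (by omega)))
    · exact H489.Deg.le_of_bd h.core e Cfsg.Agent.S2050.result (r := 5) (by norm_num)
        (Ly.orb_five.bd (F := F) (by norm_num) (H489.Deg.cast_ne (F := F) hp (by norm_num) h5))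
  exact kill_spor h (by unfold IsSporadicGroup; tauto) (Orders.ly hT) [2, 3, 5, 7, 11, 31, 37, 67] 9 44 hn
    (by norm_num) (by decide +kernel) 67 (by decide) (by decide +kernel)

end Cfsg.Agent.H592.Ppd
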