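import Cfsg.Agent.H592.Ppd.RowsB
import Cfsg.Agent.H849.FiModel
import Cfsg.Agent.MonsterP.Equiv
import Cfsg.Agent.S2059

/-!
# TEAM PPD (S5948): the row `M` (helper592)

Characteristic not 2: `H806`'s bound 28. Characteristic 2: the centralizer of an element of order 3 maps onto `Fi₂₄'`,
which gives a bound 42 at the prime 7.
-/

set_option autoImplicit false

namespace Cfsg.Agent.H592.Ppd

open Cfsg Cfsg.Geo Matrix
open Cfsg.Agent.H915.LD Cfsg.Agent.H100.Ppd Cfsg.Agent.NotCT

universe u

theorem m_seven : H921.Spor.Orb 7 42 Spor.Monster := by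
  obtain ⟨x, t, π, D⟩ := H849.FiModel.exists_data
  obtain ⟨e⟩ := MonsterP.Equiv.equiv
  obtain ⟨π', D'⟩ := D.exists_map e.symm
  have h7 : H921.Spor.Orb 7 42 Cfsg.Spor.Fi24' := H921.Spor.Fi24.Fi24_seven
  have hker : (π'.ker).map (Subgroup.centralizer {e.symm x}).subtype ≤ Subgroup.zpowers (e.symm x) := by
    rintro _ ⟨z, hz, rfl⟩
    exact (D'.ker z).1 hz
  have hx3 : Nat.card (Subgroup.zpowers (e.symm x)) = 3 := by rw [Nat.card_zpowers, D'.ord]
  have hcard : Nat.card π'.ker ∣ 3 := by
    have h1 : Nat.card π'.ker = Nat.card ((π'.ker).map (Subgroup.centralizer {e.symm x}).subtype) :=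
      Nat.card_congr (Subgroup.equivMapOfInjective _ _ (Subgroup.subtype_injective _)).toEquiv
    rw [h1, ← hx3]
    exact Subgroup.card_dvd_of_le hker
  have hfin : Finite π'.ker := by
    refine Nat.finite_of_card_ne_zero ?_
    intro h0
    rw [h0] at hcard
    exact absurd hcard (by norm_num)
  exact (h7.of_surj (by norm_num) π' D'.surj hfin
    (Nat.Coprime.coprime_dvd_left hcard (by norm_num))).of_sub

variable {n : ℕ} {F : Type u} [Field F] [Finite F] {k m : ℕ} {P : Subgroup (GL (Fin n) F)}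

/-- **The row `M`.** -/
theorem row_m (h : Row k m P) (hT : Spor.IsoM (Soc P)) : False := by
  obtain ⟨p, f, hp, hpF, hq⟩ := exists_card_eq F
  have hT' := hT
  obtain ⟨e⟩ := hT'
  have hn : 28 ≤ n := by
    by_cases h2 : p = 2
    · have h1 := H489.Deg.le_of_bd h.core e Cfsg.Agent.S2059.result (r := 7) (by norm_num)
        (m_seven.bd (F := F) (by norm_num) (H489.Deg.cast_ne (F := F) hp (by norm_num) (by omega)))
      omega
    · have hs : IsSimpleGroup Cfsg.Spor.Monster := (MulEquiv.isSimpleGroup_congr e).1 h.core.simple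
      exact h.le_of_ls e (H489.Deg.cast_ne (F := F) hp Nat.prime_two h2)
        (H806.Ls.m_ls_two (H806.Ls.nc_of_core h.core e))
  exact kill_spor h (by unfold IsSporadicGroup; tauto) (Orders.m hT)
    [2, 3, 5, 7, 11, 13, 17, 19, 23, 29, 31, 41, 47, 59, 71] 47 28 hn (by norm_num) (by decide +kernel) 71
    (by decide) (by decide +kernel)

end Cfsg.Agent.H592.Ppd
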