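import Cfsg.Agent.H592.Ppd.Kill
import Cfsg.Agent.H498.SporOut
import Cfsg.Agent.NotCT.Orders

/-!
# TEAM PPD (S5948): the sporadic rows without degree bounds (helper592)

`M₁₁, M₁₂, M₂₂, M₂₃, M₂₄, HS, McL, Co₂, Co₃, J₂`.
-/

set_option autoImplicit false

namespace Cfsg.Agent.H592.Ppd

open Cfsg Cfsg.Geo Matrix
open Cfsg.Agent.H915.LD Cfsg.Agent.H100.Ppd Cfsg.Agent.NotCT

universe u

variable {n : ℕ} {F : Type u} [Field F] [Finite F] {k m : ℕ} {P : Subgroup (GL (Fin n) F)}

/-- `|Aut S|` divides `2 |S|` for a sporadic group. -/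
theorem card_mulAut_dvd_spor {S : Type u} [Group S] [Finite S] (h : IsSporadicGroup S) {N : ℕ}
    (hN : Nat.card S = N) : Nat.card (MulAut S) ∣ 2 * N := by
  have h1 := H498.SporOut.index_le_two h
  have h2 : (MulAut.conj : S →* MulAut S).range.index ∣ 2 := by
    have h3 : (MulAut.conj : S →* MulAut S).range.index ≠ 0 := Subgroup.FiniteIndex.index_ne_zero
    interval_cases (MulAut.conj : S →* MulAut S).range.index
    · exact absurd rfl h3
    · exact one_dvd 2
    · exact dvd_refl 2
  rw [← Subgroup.card_mul_index (MulAut.conj : S →* MulAut S).range, mul_comm]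
  refine mul_dvd_mul h2 ?_
  rw [← hN]
  exact Subgroup.card_range_dvd (MulAut.conj : S →* MulAut S)

/-- The criterion for a sporadic group. -/
theorem kill_spor (h : Row k m P) (hs : IsSporadicGroup (Soc P)) {N : ℕ} (hN : Nat.card (Soc P) = N) (L : List ℕ)
    (f b : ℕ) (hb : b ≤ n) (hL : ∀ a ∈ L, a.Prime) (hNL : 2 * N ∣ L.prod ^ f) (M : ℕ) (hM : ∀ a ∈ L, a ≤ M)
    (hg : ∀ k ∈ List.range M, 6 ≤ k → b < 2 * k → good (2 * N) L k = true) : False :=
  kill_list h (MulEquiv.refl (Soc P)) (card_mulAut_dvd_spor hs hN) L f hL hNL hb hM hg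

theorem row_m11 (h : Row k m P) (hT : Spor.IsoM11 (Soc P)) : False :=
  kill_spor h (by unfold IsSporadicGroup; tauto) (Orders.m11 hT) [2, 3, 5, 11] 5 10 h.num.ten (by norm_num)
    (by decide +kernel) 11 (by decide) (by decide +kernel)

theorem row_m12 (h : Row k m P) (hT : Spor.IsoM12 (Soc P)) : False :=
  kill_spor h (by unfold IsSporadicGroup; tauto) (Orders.m12 hT) [2, 3, 5, 11] 7 10 h.num.ten (by norm_num)
    (by decide +kernel) 11 (by decide) (by decide +kernel)

theorem row_m22 (h : Row k m P) (hT : Spor.IsoM22 (Soc P)) : False :=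
  kill_spor h (by unfold IsSporadicGroup; tauto) (Orders.m22 hT) [2, 3, 5, 7, 11] 8 10 h.num.ten (by norm_num)
    (by decide +kernel) 11 (by decide) (by decide +kernel)

theorem row_m23 (h : Row k m P) (hT : Spor.IsoM23 (Soc P)) : False :=
  kill_spor h (by unfold IsSporadicGroup; tauto) (Orders.m23 hT) [2, 3, 5, 7, 11, 23] 8 10 h.num.ten (by norm_num)
    (by decide +kernel) 23 (by decide) (by decide +kernel)

theorem row_m24 (h : Row k m P) (hT : Spor.IsoM24 (Soc P)) : False :=
  kill_spor h (by unfold IsSporadicGroup; tauto) (Orders.m24 hT) [2, 3, 5, 7, 11, 23] 11 10 h.num.ten (by norm_num)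
    (by decide +kernel) 23 (by decide) (by decide +kernel)

theorem row_j2 (h : Row k m P) (hT : Spor.IsoJ2 (Soc P)) : False :=
  kill_spor h (by unfold IsSporadicGroup; tauto) (Orders.j2 hT) [2, 3, 5, 7] 8 10 h.num.ten (by norm_num)
    (by decide +kernel) 7 (by decide) (by decide +kernel)

theorem row_co2 (h : Row k m P) (hT : Spor.IsoCo2 (Soc P)) : False :=
  kill_spor h (by unfold IsSporadicGroup; tauto) (Orders.co2 hT) [2, 3, 5, 7, 11, 23] 19 10 h.num.ten (by norm_num)
    (by decide +kernel) 23 (by decide) (by decide +kernel)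

theorem row_co3 (h : Row k m P) (hT : Spor.IsoCo3 (Soc P)) : False :=
  kill_spor h (by unfold IsSporadicGroup; tauto) (Orders.co3 hT) [2, 3, 5, 7, 11, 23] 11 10 h.num.ten (by norm_num)
    (by decide +kernel) 23 (by decide) (by decide +kernel)

theorem row_mcl (h : Row k m P) (hT : Spor.IsoMcL (Soc P)) : False :=
  kill_spor h (by unfold IsSporadicGroup; tauto) (Orders.mcl hT) [2, 3, 5, 7, 11] 8 10 h.num.ten (by norm_num)
    (by decide +kernel) 11 (by decide) (by decide +kernel)

theorem row_hs (h : Row k m P) (hT : Spor.IsoHS (Soc P)) : False :=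
  kill_spor h (by unfold IsSporadicGroup; tauto) (Orders.hs hT) [2, 3, 5, 7, 11] 10 10 h.num.ten (by norm_num)
    (by decide +kernel) 11 (by decide) (by decide +kernel)

end Cfsg.Agent.H592.Ppd
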