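import Cfsg.Agent.H592.Ppd.Kill
import Cfsg.Agent.H287.Ppd.Fusion
import Cfsg.Agent.H921.SporGen

/-!
# TEAM PPD (S5948), sporadic rows: the fusion criterion for words (helper592)
-/

set_option autoImplicit false

namespace Cfsg.Agent.H592.Ppd

open Cfsg Cfsg.Geo Matrix
open Cfsg.Agent.H915.LD Cfsg.Agent.H100.Ppd Cfsg.Agent.H921.Spor

universe u v w

variable {n : ℕ} {F : Type u} [Field F] [Finite F] {k m : ℕ} {P : Subgroup (GL (Fin n) F)}
variable {T : Type v} [Group T]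

/-- if `y x y⁻¹ = x ^ a` with `x` of prime order `r ∣ m` then `a ^ k ≡ 1` modulo `r` -/
theorem pow_mod_of_conj (h : Row k m P) (e : Soc P ≃* T) {r : ℕ} (hr : r.Prime) (hrm : r ∣ m) {x y : T}
    (hx : x ^ r = 1) (hx1 : x ≠ 1) {a : ℕ} (hy : y * x * y⁻¹ = x ^ a) : a ^ k % r = 1 := by
  have : Fact r.Prime := ⟨hr⟩
  obtain ⟨i, hi⟩ := H287.Ppd.Row.conj_pow' h e hr hrm (orderOf_eq_prime hx hx1) hy
  have h1 : ((Nat.card F : ZMod r)) ^ k = 1 := (h.num.pow_eq_one_iff hr hrm k).2 dvd_rfl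
  have h2 : ((a ^ k : ℕ) : ZMod r) = ((1 : ℕ) : ZMod r) := by
    have h3 : ((a : ℕ) : ZMod r) = ((Nat.card F ^ i : ℕ) : ZMod r) := (ZMod.natCast_eq_natCast_iff _ _ _).2 hi
    push_cast at h3 ⊢
    rw [h3, ← pow_mul, mul_comm, pow_mul, h1, one_pow]
  have h4 := (ZMod.natCast_eq_natCast_iff _ _ _).1 h2
  rw [Nat.ModEq, Nat.mod_eq_of_lt hr.one_lt] at h4
  exact h4

/-- the same for words -/
theorem pow_mod_of_wd (h : Row k m P) (e : Soc P ≃* T) (w : Wd T) {r : ℕ} (hr : r.Prime) (hrm : r ∣ m) {a : ℕ}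
    {u v : List ℕ} (hc : chkP0 w.eq w.ne r a u v = true) : a ^ k % r = 1 := by
  unfold chkP0 at hc
  simp only [Bool.and_eq_true] at hc
  refine pow_mod_of_conj h e hr hrm (x := w.W u) (y := w.W v) ?_ (w.ne_sound hc.1.2) ?_
  · rw [← w.W_rep, w.eq_sound hc.1.1, w.nil]
  · rw [mul_inv_eq_iff_eq_mul, ← w.app, w.eq_sound hc.2, w.app, w.W_rep]

end Cfsg.Agent.H592.Ppd
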