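import Cfsg.Agent.H592.Ppd.RowsA
import Cfsg.Agent.H592.Ppd.Fus
import Cfsg.Agent.H921.SporJ3
import Cfsg.Agent.H921.SporFi24
import Cfsg.Agent.S2055
import Cfsg.Agent.H489.DegRu
import Cfsg.Agent.H489.DegON
import Cfsg.Agent.H489.DegTh
import Cfsg.Agent.H806.LsFiLe

/-!
# TEAM PPD (S5948): the rows `J₃`, `Ru`, `O'N`, `Fi₂₄'`, `Th`, `B` (helper592)
-/

set_option autoImplicit false

namespace Cfsg.Agent.H592.Ppd

open Cfsg Cfsg.Geo Matrix
open Cfsg.Agent.H915.LD Cfsg.Agent.H100.Ppd Cfsg.Agent.NotCT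

universe u

variable {n : ℕ} {F : Type u} [Field F] [Finite F] {k m : ℕ} {P : Subgroup (GL (Fin n) F)}

/-- The criterion for a sporadic group, some pairs `(k, r)` being excluded by other means. -/
theorem kill_spor' (h : Row k m P) (hs : IsSporadicGroup (Soc P)) {N : ℕ} (hN : Nat.card (Soc P) = N) (L : List ℕ)
    (f b : ℕ) (hb : b ≤ n) (hL : ∀ a ∈ L, a.Prime) (hNL : 2 * N ∣ L.prod ^ f) (M : ℕ) (hM : ∀ a ∈ L, a ≤ M)
    (ex : List (ℕ × ℕ)) (hex : ∀ x ∈ ex, k = x.1 → ¬ x.2 ∣ m)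
    (hg : ∀ k ∈ List.range M, 6 ≤ k → b < 2 * k →
      good (2 * N) (L.filter fun r => !(ex.any fun x => Nat.beq x.1 k && Nat.beq x.2 r)) k = true) : False := by
  have hA := card_mulAut_dvd_spor hs hN
  have hmN : m ∣ 2 * N := (h.dvd_card (MulEquiv.refl (Soc P))).trans hA
  have hmem : ∀ r : ℕ, r.Prime → r ∣ m → r ∈ L := fun r hr hrm => mem_of_dvd hL hNL hr (hrm.trans hmN)
  refine kill_list' h (MulEquiv.refl (Soc P)) hA _ ?_ (hg k ?_ h.num.six_le (lt_of_le_of_lt hb h.num.nlt))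
  · intro r hr hrm
    rw [List.mem_filter]
    refine ⟨hmem r hr hrm, ?_⟩
    rw [Bool.not_eq_true', Bool.eq_false_iff]
    intro h1
    rw [List.any_eq_true] at h1
    obtain ⟨x, hx, h2⟩ := h1
    rw [Bool.and_eq_true] at h2
    have h3 := Nat.eq_of_beq_eq_true h2.1
    have h4 := Nat.eq_of_beq_eq_true h2.2
    exact hex x hx h3.symm (by rw [h4]; exact hrm)
  · obtain ⟨r, hr, hrm⟩ := h.num.exists_prime
    have h1 := hM r (hmem r hr hrm)
    have h2 := h.num.succ_le hr hrm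
    rw [List.mem_range]
    omega

/-- `q = p ^ f` -/
theorem exists_card_eq (F : Type u) [Field F] [Finite F] : ∃ p f : ℕ, p.Prime ∧ CharP F p ∧ Nat.card F = p ^ f := by
  have : Fintype F := Fintype.ofFinite F
  obtain ⟨p, hp⟩ := CharP.exists F
  obtain ⟨f, hp', hf⟩ := FiniteField.card F p
  exact ⟨p, f, hp', hp, by rw [Nat.card_eq_fintype_card, hf]⟩

/-- **The row `J₃`.** -/
theorem row_j3 (h : Row k m P) (hT : Spor.IsoJ3 (Soc P)) : False := by
  have hT' := hT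
  obtain ⟨K, iK, iKf, ω, hK, hω, ⟨e⟩⟩ := hT'
  have H : Cfsg.Agent.J3.Core.Good ω := Cfsg.Agent.J3.Core.good_of_card hK hω
  obtain ⟨G⟩ := Cfsg.Agent.J3.Elts.exists_gens hK H
  refine kill_spor' h (by unfold IsSporadicGroup; tauto) (Orders.j3 hT) [2, 3, 5, 17, 19] 8 10 h.num.ten (by norm_num)
    (by decide +kernel) 19 (by decide) [(6, 19)] ?_ (by decide +kernel)
  intro x hx hk hxm
  rw [List.mem_singleton] at hx
  subst hx
  have h1 := pow_mod_of_wd h e (H921.Spor.J3.wd hK H G) (r := 19) (a := 4) (by norm_num) hxm (u := [4, 8, 12])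
    (v := [9, 6, 2, 4, 12, 8, 12, 2, 6, 0, 12, 7, 0, 3, 1, 12, 4]) (by
      change H921.Spor.chkP0 H921.Spor.J3.eqs H921.Spor.J3.nes 19 4 [4, 8, 12]
        [9, 6, 2, 4, 12, 8, 12, 2, 6, 0, 12, 7, 0, 3, 1, 12, 4] = true
      decide +kernel)
  rw [hk] at h1
  exact absurd h1 (by norm_num)

/-- **The row `Ru`.** -/
theorem row_ru (h : Row k m P) (hT : Spor.IsoRu (Soc P)) : False := by
  obtain ⟨p, f, hp, hpF, hq⟩ := exists_card_eq F
  have hT' := hT
  obtain ⟨e⟩ := hT'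
  have hn : 14 ≤ n := H489.Deg.Ru.ru_le hp h.core e
  exact kill_spor h (by unfold IsSporadicGroup; tauto) (Orders.ru hT) [2, 3, 5, 7, 13, 29] 15 14 hn (by norm_num)
    (by decide +kernel) 29 (by decide) (by decide +kernel)

/-- `Fi₂₄'`: degree at least 24 -/
theorem fi24_le (h : Row k m P) (e : Soc P ≃* Spor.Fi24') : 24 ≤ n := by
  obtain ⟨p, f, hp, hpF, hq⟩ := exists_card_eq F
  by_cases h7 : p = 7
  · exact H489.Deg.le_of_bd h.core e Cfsg.Agent.S2055.result (r := 5) (by norm_num)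
      (H921.Spor.Fi24.Fi24_five.bd (F := F) (by norm_num) (H489.Deg.cast_ne (F := F) hp (by norm_num) (by omega)))
  · have h := H489.Deg.le_of_bd h.core e Cfsg.Agent.S2055.result (r := 7) (by norm_num)
      (H921.Spor.Fi24.Fi24_seven.bd (F := F) (by norm_num) (H489.Deg.cast_ne (F := F) hp (by norm_num) h7))
    omega

/-- **The row `Fi₂₄'`.** -/
theorem row_fi24 (h : Row k m P) (hT : Spor.IsoFi24' (Soc P)) : False := by
  have hT' := hT
  obtain ⟨e⟩ := hT'
  have hn : 24 ≤ n := fi24_le h e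
  exact kill_spor h (by unfold IsSporadicGroup; tauto) (Orders.fi24 hT) [2, 3, 5, 7, 11, 13, 17, 23, 29] 22 24 hn
    (by norm_num) (by decide +kernel) 29 (by decide) (by decide +kernel)

/-- **The row `O'N`.** -/
theorem row_on (h : Row k m P) (hT : Spor.IsoON (Soc P)) : False := by
  obtain ⟨p, f, hp, hpF, hq⟩ := exists_card_eq F
  have hT' := hT
  obtain ⟨e⟩ := hT'
  have hn : 14 ≤ n := H489.Deg.ON.on_le hp h.core e
  refine kill_spor' h (by unfold IsSporadicGroup; tauto) (Orders.on hT) [2, 3, 5, 7, 11, 19, 31] 10 14 hn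
    (by norm_num) (by decide +kernel) 31 (by decide) [(10, 31)] ?_ (by decide +kernel)
  intro x hx hk hxm
  rw [List.mem_singleton] at hx
  subst hx
  have h1 := pow_mod_of_wd h e H489.Deg.ON.wd (r := 31) (a := 10) (by norm_num) hxm (u := [6, 4, 1, 3, 2])
    (v := [0, 2, 6, 6, 6, 1, 2, 4, 3, 2, 6, 3, 4, 3, 2]) (by decide +kernel)
  rw [hk] at h1
  exact absurd h1 (by norm_num)

/-- **The row `B`.** -/
theorem row_b (h : Row k m P) (hT : Spor.IsoB (Soc P)) : False := by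
  obtain ⟨p, f, hp, hpF, hq⟩ := exists_card_eq F
  have hT' := hT
  obtain ⟨e⟩ := hT'
  have hn : 16 ≤ n := H806.Ls.b_le hp h.core e
  refine kill_spor' h (by unfold IsSporadicGroup; tauto) (Orders.b hT)
    [2, 3, 5, 7, 11, 13, 17, 19, 23, 31, 47] 42 16 hn (by norm_num) (by decide +kernel) 47 (by decide) [(10, 31)] ?_
    (by decide +kernel)
  intro x hx hk hxm
  rw [List.mem_singleton] at hx
  subst hx
  by_cases hp2 : p = 2
  · subst hp2
    have h1 := dvd_of_char h.num hq (r := 31) (by norm_num) hxm (j := 5) (by norm_num)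
    rw [hk] at h1
    exact absurd h1 (by norm_num)
  · have hs : IsSimpleGroup Cfsg.Spor.BabyMonster := (MulEquiv.isSimpleGroup_congr e).1 h.core.simple
    have h1 := h.le_of_ls e (H489.Deg.cast_ne (F := F) hp Nat.prime_two hp2)
      (H806.Ls.b_ls_two (H806.Ls.nc_of_core h.core e))
    have h2 := h.num.nlt
    simp only at hk
    omega

/-- `Th`: orbits of length 24 on `7²` -/
theorem th_seven : H921.Spor.Orb 7 24 Cfsg.Spor.Th :=
  H489.Deg.Th.w.orb_gen (r := 7) (d := 2) (m := 24)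
    (X := [[6, 6], [2, 3, 4, 3, 4]])
    (G := [[8], [2, 4], [1, 2, 1, 3],
      [3, 5, 4, 7, 5, 4, 3, 2, 4, 3, 7, 5, 4, 3, 6, 5, 4, 2, 3, 5, 4, 3, 6, 5, 6, 8]])
    (B := [[[4, 0], [0, 1]], [[6, 0], [0, 6]], [[1, 0], [0, 4]], [[5, 1], [2, 4]]])
    (S := [[], [0], [1], [0, 0], [1, 0], [1, 0, 0], [2], [2, 0], [2, 1], [2, 2], [2, 0, 0], [2, 1, 0], [2, 2, 0],
      [2, 2, 1], [3, 2, 3], [2, 2, 0, 0], [2, 2, 1, 0], [3, 2, 3, 2], [3], [3, 1], [0, 3], [3, 3], [0, 3, 1],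
      [3, 3, 1], [2, 3, 2], [3, 2, 0, 0], [2, 3, 0, 0], [0, 3, 2, 0], [2, 3, 2, 1], [3, 0, 3, 2], [2, 3, 0, 3],
      [2, 3, 1, 0, 0], [3, 0], [3, 1, 0], [3, 2, 2], [2, 2, 3], [3, 2, 2, 1], [2, 2, 3, 1]]) (c₀ := [1, 0])
    (by norm_num) (by decide +kernel)

/-- **The row `Th`.** -/
theorem row_th (h : Row k m P) (hT : Spor.IsoTh (Soc P)) : False := by
  obtain ⟨p, f, hp, hpF, hq⟩ := exists_card_eq F
  have hT' := hT
  obtain ⟨e⟩ := hT'
  have hn : 13 ≤ n := H489.Deg.Th.th_le hp h.core e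
  refine kill_spor' h (by unfold IsSporadicGroup; tauto) (Orders.th hT)
    [2, 3, 5, 7, 13, 19, 31] 16 13 hn (by norm_num) (by decide +kernel) 31 (by decide) [(10, 31)] ?_
    (by decide +kernel)
  intro x hx hk hxm
  rw [List.mem_singleton] at hx
  subst hx
  by_cases hp7 : p = 7
  · subst hp7
    have h1 := dvd_of_char h.num hq (r := 31) (by norm_num) hxm (j := 15) (by norm_num)
    rw [hk] at h1
    exact absurd h1 (by norm_num)
  · have h1 := H489.Deg.le_of_bd h.core e Cfsg.Agent.S2057.result (r := 7) (by norm_num)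
      (th_seven.bd (F := F) (by norm_num) (H489.Deg.cast_ne (F := F) hp (by norm_num : (7 : ℕ).Prime) hp7))
    have h2 := h.num.nlt
    simp only at hk
    omega

end Cfsg.Agent.H592.Ppd
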