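import Cfsg.Agent.H100.Ppd.Basic

/-!
# TEAM PPD (S5948), sporadic rows: the numeric criterion for a list of primes (helper592)
-/

set_option autoImplicit false

namespace Cfsg.Agent.H592.Ppd

open Cfsg Cfsg.Geo Matrix
open Cfsg.Agent.H915.LD Cfsg.Agent.H100.Ppd

universe u v w

/-- `good N L k`: at most one `r` in `L` with `k ∣ r - 1`, `k + 1 ≤ r`, and then `r ≤ 2 k + 1`, `r² ∤ N`. -/
def good (N : ℕ) (L : List ℕ) (k : ℕ) : Bool :=
  match L.filter (fun r => decide (k ∣ r - 1) && decide (k + 1 ≤ r)) with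
  | [] => true
  | [r] => decide (r ≤ 2 * k + 1) && !decide (r ^ 2 ∣ N)
  | _ => false

theorem mem_of_dvd {N : ℕ} {L : List ℕ} {e : ℕ} (hL : ∀ a ∈ L, a.Prime) (hN : N ∣ L.prod ^ e) {r : ℕ} (hr : r.Prime)
    (h : r ∣ N) : r ∈ L := by
  have h1 : r ∣ L.prod := hr.dvd_of_dvd_pow (h.trans hN)
  obtain ⟨a, ha, hra⟩ := (Prime.dvd_prod_iff hr.prime).1 h1
  rwa [(Nat.prime_dvd_prime_iff_eq hr (hL a ha)).1 hra]

theorem card_mulAut_dvd (T : Type v) [Group T] [Finite T] {a N : ℕ} (ha : Nat.card (Cfsg.Out T) = a)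
    (hN : Nat.card T = N) : Nat.card (MulAut T) ∣ a * N := by
  have h1 : Nat.card (MulAut T) = Nat.card (Cfsg.Inn T) * Nat.card (Cfsg.Out T) := by
    rw [← Subgroup.card_mul_index (Cfsg.Inn T)]
    rfl
  rw [h1, ha, mul_comm]
  apply mul_dvd_mul_left
  rw [← hN]
  exact Subgroup.card_range_dvd (MulAut.conj : T →* MulAut T)

variable {n : ℕ} {F : Type u} [Field F] [Finite F] {k m : ℕ} {P : Subgroup (GL (Fin n) F)}
variable {T : Type v} [Group T]

/-- **The criterion.** -/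
theorem kill_list' (h : Row k m P) (e : Soc P ≃* T) {N : ℕ} (hN : Nat.card (MulAut T) ∣ N) (L : List ℕ)
    (hL : ∀ r : ℕ, r.Prime → r ∣ m → r ∈ L) (hg : good N L k = true) : False := by
  have hmN : m ∣ N := (h.dvd_card e).trans hN
  have hmem : ∀ r : ℕ, r.Prime → r ∣ m →
      r ∈ L.filter (fun r => decide (k ∣ r - 1) && decide (k + 1 ≤ r)) := by
    intro r hr hrm
    rw [List.mem_filter]
    refine ⟨hL r hr hrm, ?_⟩
    rw [Bool.and_eq_true, decide_eq_true_eq, decide_eq_true_eq]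
    exact ⟨h.num.dvd_sub_one hr hrm, h.num.succ_le hr hrm⟩
  unfold good at hg
  rcases hf : L.filter (fun r => decide (k ∣ r - 1) && decide (k + 1 ≤ r)) with _ | ⟨r₀, _ | ⟨r₁, l⟩⟩
  · obtain ⟨r, hr, hrm⟩ := h.num.exists_prime
    have := hmem r hr hrm
    rw [hf] at this
    exact absurd this List.not_mem_nil
  · rw [hf] at hg
    simp only [Bool.and_eq_true, decide_eq_true_eq, Bool.not_eq_true', decide_eq_false_iff_not] at hg
    refine h.num.kill hg.1 ?_ (fun h1 => hg.2 (h1.trans hmN))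
    intro r hr hrm
    have := hmem r hr hrm
    rw [hf] at this
    simpa using this
  · rw [hf] at hg
    exact absurd hg (by simp)

theorem kill_list (h : Row k m P) (e : Soc P ≃* T) {N : ℕ} (hN : Nat.card (MulAut T) ∣ N) (L : List ℕ) (f : ℕ)
    (hL : ∀ a ∈ L, a.Prime) (hNL : N ∣ L.prod ^ f) {b M : ℕ} (hb : b ≤ n) (hM : ∀ a ∈ L, a ≤ M)
    (hg : ∀ k ∈ List.range M, 6 ≤ k → b < 2 * k → good N L k = true) : False := by
  have hmN : m ∣ N := (h.dvd_card e).trans hN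
  have hmem : ∀ r : ℕ, r.Prime → r ∣ m → r ∈ L := fun r hr hrm => mem_of_dvd hL hNL hr (hrm.trans hmN)
  refine kill_list' h e hN L hmem (hg k ?_ h.num.six_le (lt_of_le_of_lt hb h.num.nlt))
  obtain ⟨r, hr, hrm⟩ := h.num.exists_prime
  have h1 := hM r (hmem r hr hrm)
  have h2 := h.num.succ_le hr hrm
  rw [List.mem_range]
  omega

/-- `k` divides `j` if `p ^ j ≡ 1` modulo the prime `r ∣ m`, `p` the characteristic. -/
theorem dvd_of_char {q : ℕ} (h : Num q n k m) {p f : ℕ} (hq : q = p ^ f) {r : ℕ} (hr : r.Prime) (hrm : r ∣ m) {j : ℕ}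
    (hj : p ^ j % r = 1) : k ∣ j := by
  rw [← h.pow_eq_one_iff hr hrm, hq]
  have h1 : ((p : ZMod r)) ^ j = 1 := by
    have h2 : ((p ^ j : ℕ) : ZMod r) = ((p ^ j % r : ℕ) : ZMod r) := by
      rw [ZMod.natCast_mod]
    rw [hj] at h2
    push_cast at h2
    exact h2
  push_cast
  rw [← pow_mul, mul_comm, pow_mul, h1, one_pow]

end Cfsg.Agent.H592.Ppd
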